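import Mathlib
import Cfsg.Agent.H201.O8.MEng
import Cfsg.Agent.LieClassical.OmegaReindex
import Cfsg.Agent.LieClassical.OrthFinite
import Cfsg.Agent.ClassicalGeometry.OrthDickson

/-!
# The isometry group of the form of minus type on `𝔽₂⁸`, on codes

`act : Act O8 8 Bn qn` : the action of the isometry group on codes (bits 0, 1, 2 / 4, 5, 6: hyperbolic pairs, bits 3, 7:
the anisotropic plane), and the masks of the forms for the checker of `H201.O8.MEng`.
-/

set_option autoImplicit false

namespace Cfsg.Agent.H181.O8m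

open QuadraticMap Cfsg.Agent.LieClassical.OrthCore Cfsg.Agent.LieClassical.OmegaReindex Cfsg.Agent.H612.Ore
  Cfsg.Agent.H201.O8

/-- the space -/
abbrev V : Type := (Fin 3 ⊕ Fin 3) ⊕ Fin 2 → ZMod 2

/-- the quadratic form -/
abbrev q : QuadraticForm (ZMod 2) V := quadMinus 3 (ZMod 2) 1 1

/-- the isometry group -/
abbrev O8 : Subgroup (V ≃ₗ[ZMod 2] V) := O q

theorem aniso : ∀ z₁ z₂ : ZMod 2, z₁ ^ 2 + 1 * z₁ * z₂ + 1 * z₂ ^ 2 = 0 → z₁ = 0 ∧ z₂ = 0 := by decide

theorem nondeg : (polarBilin q).Nondegenerate := quadMinus_nondegenerate aniso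

theorem q_apply (v : V) : q v = (∑ i : Fin 3, v (.inl (.inl i)) * v (.inl (.inr i))) +
    (v (.inr 0) ^ 2 + v (.inr 0) * v (.inr 1) + v (.inr 1) ^ 2) := by
  rw [show q v = Cfsg.quadFormMinus 3 (ZMod 2) 1 1 v from congrFun (coe_quadMinus 3 (ZMod 2) 1 1) v,
    Cfsg.quadFormMinus]
  ring

/-- the polar form -/
abbrev B (u v : V) : ZMod 2 := polar q u v

theorem z2 (a : ZMod 2) : a = 0 ∨ a = 1 := by revert a; decide

theorem add_self (v : V) : v + v = 0 := by
  funext i
  have : ∀ a : ZMod 2, a + a = 0 := by decide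
  exact this _

theorem q_add (u v : V) : q (u + v) = q u + q v + B u v := QuadraticMap.map_add q u v

theorem B_add_left (u v w : V) : B (u + v) w = B u w + B v w := polar_add_left (Q := q) u v w
theorem B_add_right (u v w : V) : B u (v + w) = B u v + B u w := polar_add_right (Q := q) u v w
theorem B_zero_left (u : V) : B 0 u = 0 := polar_zero_left (Q := q) u

theorem nondeg' {x : V} (h : ∀ y, B x y = 0) : x = 0 := nondeg.1 x h

/-! ### codes -/

/-- Bit positions. -/
def ix : (Fin 3 ⊕ Fin 3) ⊕ Fin 2 → ℕ := Sum.elim (Sum.elim (fun i => i.1) (fun i => i.1 + 4)) (fun i => 3 + 4 * i.1)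

/-- bit to scalar -/
def cc (b : Bool) : ZMod 2 := if b then 1 else 0

theorem cc_xor (a b : Bool) : cc (a ^^ b) = cc a + cc b := by cases a <;> cases b <;> decide
theorem cc_and (a b : Bool) : cc (a && b) = cc a * cc b := by cases a <;> cases b <;> decide
theorem cc_inj {a b : Bool} (h : cc a = cc b) : a = b := by
  cases a <;> cases b <;> simp_all [cc]
theorem cc_sq (a : Bool) : cc a ^ 2 = cc a := by cases a <;> decide

/-- Decoding. -/
def dec (n : ℕ) : V := fun i => cc (n.testBit (ix i))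

theorem dec_xor (a b : ℕ) : dec (a ^^^ b) = dec a + dec b := by
  funext i
  show cc ((a ^^^ b).testBit (ix i)) = cc _ + cc _
  rw [Nat.testBit_xor, cc_xor]

theorem dec_zero : dec 0 = 0 := by
  funext i
  show cc ((0 : ℕ).testBit (ix i)) = 0
  rw [Nat.zero_testBit]; rfl

theorem dec_eq_zero : ∀ a : Fin 256, dec a.1 = 0 → a = 0 := by decide +kernel

theorem dec_inj {a b : ℕ} (ha : a < 256) (hb : b < 256) (h : dec a = dec b) : a = b := by
  have h1 : dec (a ^^^ b) = 0 := by rw [dec_xor, h, add_self]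
  have h2 := dec_eq_zero ⟨a ^^^ b, Nat.xor_lt_two_pow (n := 8) ha hb⟩ h1
  have h3 : a ^^^ b = 0 := congrArg Fin.val h2
  have h4 : (a ^^^ b) ^^^ b = a := by rw [Nat.xor_assoc, Nat.xor_self, Nat.xor_zero]
  rw [h3, Nat.zero_xor] at h4
  exact h4.symm

theorem dec_surj (v : V) : ∃ a < 256, dec a = v := by
  have hinj : Function.Injective (fun a : Fin 256 => dec a.1) := fun a b hab =>
    Fin.ext (dec_inj a.2 b.2 hab)
  have hbij : Function.Bijective (fun a : Fin 256 => dec a.1) := by
    rw [Fintype.bijective_iff_injective_and_card]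
    refine ⟨hinj, ?_⟩
    rw [Fintype.card_fun]
    simp [ZMod.card]
  obtain ⟨a, ha⟩ := hbij.2 v
  exact ⟨a.1, a.2, ha⟩

/-- the quadratic form on codes -/
def qn (n : ℕ) : Bool :=
  (n.testBit 0 && n.testBit 4) ^^ (n.testBit 1 && n.testBit 5) ^^ (n.testBit 2 && n.testBit 6) ^^
    (n.testBit 3 && n.testBit 7) ^^ n.testBit 3 ^^ n.testBit 7

/-- the bilinear form on codes -/
def Bn (m n : ℕ) : Bool :=
  ((m.testBit 0 && n.testBit 4) ^^ (m.testBit 1 && n.testBit 5) ^^ (m.testBit 2 && n.testBit 6) ^^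
    (m.testBit 3 && n.testBit 7)) ^^
  ((m.testBit 4 && n.testBit 0) ^^ (m.testBit 5 && n.testBit 1) ^^ (m.testBit 6 && n.testBit 2) ^^
    (m.testBit 7 && n.testBit 3))

theorem q_dec (n : ℕ) : q (dec n) = cc (qn n) := by
  rw [q_apply, Fin.sum_univ_three]
  simp only [qn, cc_xor, cc_and, dec, ix, Sum.elim_inl, Sum.elim_inr, cc_sq, one_mul]
  simp only [Fin.val_zero, Fin.val_one, Fin.val_two, mul_zero, add_zero, mul_one, zero_add]
  norm_num
  ring

theorem B_dec (m n : ℕ) : B (dec m) (dec n) = cc (Bn m n) := by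
  have h := q_add (dec m) (dec n)
  rw [← dec_xor, q_dec, q_dec, q_dec] at h
  have h1 : cc (qn (m ^^^ n)) = cc (qn m) + cc (qn n) + cc (Bn m n) := by
    simp only [qn, Bn, cc_xor, cc_and, Nat.testBit_xor]
    ring
  rw [h1] at h
  exact (add_left_cancel h).symm

/-- the eight basis codes -/
def basis : List ℕ := [1, 2, 4, 8, 16, 32, 64, 128]

theorem dec_ix : ∀ a : (Fin 3 ⊕ Fin 3) ⊕ Fin 2, dec (2 ^ ix a) = Pi.single a 1 := by decide +kernel

theorem exists_ix : ∀ i < 8, ∃ a : (Fin 3 ⊕ Fin 3) ⊕ Fin 2, ix a = i := by decide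

theorem ix_lt : ∀ a, ix a < 8 := by decide

/-- two linear maps agreeing on the basis codes are equal -/
theorem lin_ext {g h : V ≃ₗ[ZMod 2] V} (e : ∀ i < 8, g (dec (2 ^ i)) = h (dec (2 ^ i))) : g = h := by
  apply LinearEquiv.toLinearMap_injective
  apply (Pi.basisFun (ZMod 2) ((Fin 3 ⊕ Fin 3) ⊕ Fin 2)).ext
  intro a
  rw [Pi.basisFun_apply]
  show g _ = h _
  rw [← dec_ix]
  exact e _ (ix_lt a)

/-- the code of a vector -/
noncomputable def cd (x : V) : ℕ := Classical.choose (dec_surj x)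

theorem cd_lt (x : V) : cd x < 256 := (Classical.choose_spec (dec_surj x)).1
theorem dec_cd (x : V) : dec (cd x) = x := (Classical.choose_spec (dec_surj x)).2
theorem cd_dec {v : ℕ} (hv : v < 256) : cd (dec v) = v := dec_inj (cd_lt _) hv (dec_cd _)
theorem cd_inj {x y : V} (h : cd x = cd y) : x = y := by rw [← dec_cd x, h, dec_cd]

theorem col_lt' (c i : ℕ) : col 8 c i < 256 := Nat.mod_lt _ (by norm_num)

/-- the linear map with given columns -/
noncomputable def lmap (c : ℕ) : V →ₗ[ZMod 2] V :=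
  (Pi.basisFun (ZMod 2) ((Fin 3 ⊕ Fin 3) ⊕ Fin 2)).constr (ZMod 2) fun a => dec (col 8 c (ix a))

theorem lmap_dec (c : ℕ) {i : ℕ} (hi : i < 8) : lmap c (dec (2 ^ i)) = dec (col 8 c i) := by
  obtain ⟨a, rfl⟩ := exists_ix i hi
  rw [dec_ix, lmap, ← Pi.basisFun_apply, Module.Basis.constr_basis]

/-- additive maps vanishing on the basis -/
theorem add_ext {D : V → ZMod 2} (hD : ∀ x y, D (x + y) = D x + D y) (h0 : ∀ i < 8, D (dec (2 ^ i)) = 0) (x : V) :
    D x = 0 := by
  have hz : D 0 = 0 := by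
    have := hD 0 0
    rw [add_zero] at this
    exact left_eq_add.1 this
  let F : V →+ ZMod 2 := { toFun := D, map_zero' := hz, map_add' := hD }
  have hF : F.toZModLinearMap 2 = 0 := by
    apply (Pi.basisFun (ZMod 2) ((Fin 3 ⊕ Fin 3) ⊕ Fin 2)).ext
    intro a
    rw [Pi.basisFun_apply, ← dec_ix]
    exact h0 _ (ix_lt a)
  exact LinearMap.congr_fun hF x

theorem lmap_B {c : ℕ} (hB : ∀ i, i < 8 → ∀ j, j < 8 → Bn (col 8 c i) (col 8 c j) = Bn (2 ^ i) (2 ^ j)) (x y : V) :
    B (lmap c x) (lmap c y) = B x y := by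
  have two : ∀ a : ZMod 2, a + a = 0 := by decide
  have e2 : ∀ a b : ZMod 2, a + b = 0 → a = b := by decide
  have h1 : ∀ i < 8, ∀ y : V, B (lmap c (dec (2 ^ i))) (lmap c y) + B (dec (2 ^ i)) y = 0 := by
    intro i hi y
    refine add_ext (D := fun y => B (lmap c (dec (2 ^ i))) (lmap c y) + B (dec (2 ^ i)) y) ?_ ?_ y
    · intro x y
      simp only [map_add, B_add_right]
      ring
    · intro j hj
      simp only [lmap_dec c hi, lmap_dec c hj, B_dec, hB i hi j hj]
      exact two _
  apply e2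
  refine add_ext (D := fun x => B (lmap c x) (lmap c y) + B x y) ?_ ?_ x
  · intro x z
    simp only [map_add, B_add_left]
    ring
  · intro i hi
    exact h1 i hi y

theorem lmap_q {c : ℕ} (hB : ∀ i, i < 8 → ∀ j, j < 8 → Bn (col 8 c i) (col 8 c j) = Bn (2 ^ i) (2 ^ j))
    (hQ : ∀ i, i < 8 → qn (col 8 c i) = qn (2 ^ i)) (x : V) : q (lmap c x) = q x := by
  have two : ∀ a : ZMod 2, a + a = 0 := by decide
  have e2 : ∀ a b : ZMod 2, a + b = 0 → a = b := by decide
  apply e2
  refine add_ext (D := fun x => q (lmap c x) + q x) ?_ ?_ x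
  · intro x y
    simp only [map_add, q_add, lmap_B hB]
    have := two (B x y)
    linear_combination this
  · intro i hi
    simp only [lmap_dec c hi, q_dec, hQ i hi]
    exact two _

theorem exists_real (c : ℕ) (hB : ∀ i, i < 8 → ∀ j, j < 8 → Bn (col 8 c i) (col 8 c j) = Bn (2 ^ i) (2 ^ j))
    (hQ : ∀ i, i < 8 → qn (col 8 c i) = qn (2 ^ i)) :
    ∃ g : O8, ∀ i, i < 8 → cd ((g : V ≃ₗ[ZMod 2] V) (dec (2 ^ i))) = col 8 c i := by
  have hinj : Function.Injective (lmap c) := by
    rw [← LinearMap.ker_eq_bot, LinearMap.ker_eq_bot']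
    intro x hx
    apply nondeg'
    intro y
    rw [← lmap_B hB x y, hx, B_zero_left]
  let e : V ≃ₗ[ZMod 2] V := LinearEquiv.ofInjectiveEndo (lmap c) hinj
  have he : ∀ x, e x = lmap c x := fun x => rfl
  refine ⟨⟨e, mem_O.2 fun v => ?_⟩, fun i hi => ?_⟩
  · rw [he]; exact lmap_q hB hQ v
  · show cd (e (dec (2 ^ i))) = _
    rw [he, lmap_dec c hi, cd_dec (col_lt' c i)]

/-- the action on codes -/
noncomputable def act : Act O8 8 Bn qn where
  ap g v := cd ((g : V ≃ₗ[ZMod 2] V) (dec v))
  one v hv := cd_dec hv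
  mul g h v _ := by
    show cd ((g : V ≃ₗ[ZMod 2] V) ((h : V ≃ₗ[ZMod 2] V) (dec v))) = cd ((g : V ≃ₗ[ZMod 2] V) (dec (cd _)))
    rw [dec_cd]
  lt g v _ := cd_lt _
  xor g u v hu hv := by
    apply dec_inj (cd_lt _) (Nat.xor_lt_two_pow (n := 8) (cd_lt _) (cd_lt _))
    rw [dec_cd, dec_xor, map_add, dec_xor, dec_cd, dec_cd]
  formB g u v _ _ := by
    apply cc_inj
    rw [← B_dec, ← B_dec, dec_cd, dec_cd]
    exact polar_map g.2 _ _
  formQ g u _ := by
    apply cc_inj
    rw [← q_dec, ← q_dec, dec_cd]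
    exact g.2 _
  faithful g h := by
    apply Subtype.ext
    apply lin_ext
    intro i hi
    apply cd_inj
    have e : cd ((g : V ≃ₗ[ZMod 2] V) (dec (2 ^ i))) = 2 ^ i := h i hi
    rw [e]
    show 2 ^ i = cd (dec (2 ^ i))
    rw [cd_dec (two_pow_lt (n := 8) hi)]
  real := exists_real

theorem act_ap (g : O8) (v : ℕ) : act.ap g v = cd ((g : V ≃ₗ[ZMod 2] V) (dec v)) := rfl

/-! ### Masks -/

/-- mask of `v ↦ bit i of v` -/
def bm : ℕ → ℕ
  | 0 => 77194726158210796949047323339125271902179989777093709359638389338608753093290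
  | 1 => 92633671389852956338856788006950326282615987732512451231566067206330503711948
  | 2 => 108980789870415242751596221184647442685430573802955824978313020242741769072880
  | 3 => 115341536360906404779899502576747487978354537254490211650198994186870666100480
  | 4 => 115790322417210952336529717160220497262186272106556906860092653394915770695680
  | 5 => 115792089210356248762697446947946071893095522863849111501270640965525260206080
  | 6 => 115792089237316195417293883273301227089774477609353836086800156426807153786880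
  | 7 => 115792089237316195423570985008687907852929702298719625575994209400481361428480
  | _ => 0

/-- all vectors -/
def fl8 : ℕ := 115792089237316195423570985008687907853269984665640564039457584007913129639935

/-- mask of the quadratic form -/
def mQ8 : ℕ := 47759223636507730209801550344371119078934783318887441289834004656231277002752 ^^^ bm 3 ^^^ bm 7

/-- mask of `v ↦ Bn v u` -/
def mB8 (u : ℕ) : ℕ :=
  (((bif u.testBit 4 then bm 0 else 0) ^^^ (bif u.testBit 5 then bm 1 else 0)) ^^^ (bif u.testBit 6 then bm 2 else 0) ^^^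
  (bif u.testBit 7 then bm 3 else 0)) ^^^
  (((bif u.testBit 0 then bm 4 else 0) ^^^ (bif u.testBit 1 then bm 5 else 0)) ^^^ (bif u.testBit 2 then bm 6 else 0) ^^^
  (bif u.testBit 3 then bm 7 else 0))

theorem bm_bit : ∀ i < 8, ∀ v < 256, (bm i).testBit v = v.testBit i := by decide +kernel

theorem cond_bit (b : Bool) (m v : ℕ) : (bif b then m else 0).testBit v = (b && m.testBit v) := by
  cases b
  · rw [cond_false, Nat.zero_testBit, Bool.false_and]
  · rw [cond_true, Bool.true_and]

/-- the masks are correct -/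
theorem masks : Masks 8 Bn qn fl8 mQ8 mB8 (fun i j => (i ^^^ 4) == j) (fun i => i == 3 || i == 7) where
  hfl := by decide +kernel
  hQ := by decide +kernel
  hB u _ v hv := by
    have hv' : v < 256 := hv
    simp only [mB8, Nat.testBit_xor, cond_bit, bm_bit 0 (by norm_num) v hv', bm_bit 1 (by norm_num) v hv',
      bm_bit 2 (by norm_num) v hv', bm_bit 3 (by norm_num) v hv', bm_bit 4 (by norm_num) v hv',
      bm_bit 5 (by norm_num) v hv', bm_bit 6 (by norm_num) v hv', bm_bit 7 (by norm_num) v hv', Bn]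
    simp only [Bool.and_comm (Nat.testBit v _)]
  hb := by decide +kernel
  hq := by decide +kernel

end Cfsg.Agent.H181.O8m
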