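import Cfsg.Agent.H181.TC.Cover
import Cfsg.Agent.H977.DpIso
import Cfsg.Agent.H494.TC.Base

/-!
# `Ω₈⁻(2)` : every element `≠ 1` is a product of two elements of the class of elements of order 7

`N8` : the commutator subgroup of the isometry group, of index 2; `outs` : the representatives outside `N8` are products
of an odd number of reflections; `cert` : certificates `r = (u x₀ u⁻¹) (v x₀ v⁻¹)` for the 32 classes; `pp_o8m` : the row
of S4173, S2464, S2452.
-/

set_option autoImplicit false
set_option maxRecDepth 100000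

namespace Cfsg.Agent.H181.O8m

open Cfsg.Agent.H612.Ore Cfsg.Agent.H201.O8 Cfsg.Agent.LieClassical.OrthCore Cfsg.Agent.LieClassical.OmegaReindex
  Cfsg.Agent.LieClassical.OrthFinite Cfsg.Agent.ClassicalGeometry.OrthDickson
  Cfsg.Agent.ClassicalGeometry.Reflection QuadraticMap

/-! ### the subgroup of index two -/

/-- the commutator subgroup of the isometry group -/
abbrev N8 : Subgroup O8 := commutator O8

theorem two_zero : (2 : ZMod 2) = 0 := by decide

theorem card_ix : Fintype.card ((Fin 3 ⊕ Fin 3) ⊕ Fin 2) ≠ 4 := by decide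

theorem map_N8 : (commutator (Cfsg.isometryGroup (ZMod 2) ⇑q)).map (isometryEquiv q).toMonoidHom = N8 := by
  rw [commutator_def, Subgroup.map_commutator, ← MonoidHom.range_eq_map,
    MonoidHom.range_eq_top.2 (isometryEquiv q).surjective]
  rfl

theorem index_N8 : N8.index = 2 := by
  rw [← map_N8]
  exact (Subgroup.index_map_equiv _ (isometryEquiv q)).trans
    (index_commutator_two q two_zero nondeg (Or.inr card_ix))

/-- the reflection in the vector with code `a` -/
noncomputable def rf (a : ℕ) (ha : qn a = true) : O8 :=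
  ⟨refl q (dec a) (by rw [q_dec, ha]; decide), refl_mem_O _⟩

theorem rf_dec {a : ℕ} (ha : qn a = true) (v : ℕ) :
    ((rf a ha : O8) : V ≃ₗ[ZMod 2] V) (dec v) = dec (v ^^^ (bif Bn a v then a else 0)) := by
  have h1 : q (dec a) = 1 := by rw [q_dec, ha]; rfl
  have h0 : q (dec a) ≠ 0 := by rw [q_dec, ha]; decide
  show refl q (dec a) h0 (dec v) = _
  rw [refl_apply, h1, inv_one, one_mul, dec_xor, show polar q (dec a) (dec v) = cc (Bn a v) from B_dec a v]
  have hs : ∀ x y : V, x - y = x + y := fun x y => by rw [sub_eq_iff_eq_add, add_assoc, add_self, add_zero]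
  rw [hs]
  cases Bn a v
  · rw [cond_false, dec_zero]
    show dec v + (0 : ZMod 2) • dec a = dec v + 0
    rw [zero_smul]
  · rw [cond_true]
    show dec v + (1 : ZMod 2) • dec a = dec v + dec a
    rw [one_smul]

theorem rf_notMem {a : ℕ} (ha : qn a = true) : rf a ha ∉ N8 := by
  intro h
  have h0 : q (dec a) ≠ 0 := by rw [q_dec, ha]; decide
  rw [← map_N8] at h
  obtain ⟨g, hg, e⟩ := h
  apply refl_notMem_commutator q nondeg (Or.inr card_ix) (dec a) h0
  have h1 : g = reflIso q (dec a) h0 := by
    apply (isometryEquiv q).injective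
    apply Subtype.ext
    have e' : isometryEquiv q g = rf a ha := e
    rw [e']
    ext1 x
    show refl q (dec a) h0 x = _
    rw [isometryEquiv_apply, coe_reflIso, reflectionMatrix_mulVec, refl_apply]
  rw [← h1]
  exact hg

theorem mul_mem_N8 {a b : O8} (ha : a ∉ N8) (hb : b ∉ N8) : a * b ∈ N8 :=
  (Subgroup.mul_mem_iff_of_index_two index_N8 (a := a) (b := b)).2 ⟨fun h => absurd h ha, fun h => absurd h hb⟩

/-! ### the classes outside `N8` -/

/-- value of a product of reflections -/
def evr : List ℕ → ℕ → ℕ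
  | [], v => v
  | a :: l, v => evr l v ^^^ (bif Bn a (evr l v) then a else 0)

theorem exists_word : ∀ l : List ℕ, l.all qn = true → ∃ g : O8, (g ∈ N8 ↔ l.length % 2 = 0) ∧
    ∀ v, (g : V ≃ₗ[ZMod 2] V) (dec v) = dec (evr l v) := by
  intro l
  induction l with
  | nil => intro _; exact ⟨1, by simp [one_mem], fun v => rfl⟩
  | cons a l ih =>
    intro h
    rw [List.all_cons, Bool.and_eq_true] at h
    obtain ⟨g, h1, h2⟩ := ih h.2
    refine ⟨rf a h.1 * g, ?_, fun v => ?_⟩
    · rw [Subgroup.mul_mem_iff_of_index_two index_N8, h1, List.length_cons]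
      have := rf_notMem h.1
      constructor
      · intro h3
        by_contra h4
        exact this (h3.2 (by omega))
      · intro h3
        exact ⟨fun h4 => absurd h4 this, fun h4 => by omega⟩
    · show ((rf a h.1 : O8) : V ≃ₗ[ZMod 2] V) ((g : V ≃ₗ[ZMod 2] V) (dec v)) = _
      rw [h2, rf_dec]
      rfl

/-- codes of the outer classes with words -/
def outs : List (ℕ × List ℕ) :=
  [(9241421624165794320, [17]), (9817882378482483728, [8, 128, 17]), (9533029700038033936, [8, 12, 17]),
  (597888042425909776, [128, 15, 68, 140, 75, 8, 17]), (9818449726482416144, [128, 136, 17, 71, 69, 75, 8, 10, 73]),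
  (9800998275917152784, [8, 17, 68, 69, 69, 213, 213, 10, 8, 72, 74]), (9423265454304264720, [128, 12, 14, 17,
  134]), (9232484793655362576, [68, 70, 17, 34, 38]), (9808945547972051984, [128, 34, 98, 100, 136, 68, 17]),
  (9668771007556879376, [59, 19, 44, 123, 125]), (10245231761974232080, [160, 221, 223, 192, 180, 130, 19, 54, 74,
  35, 231, 73, 141]), (9810078044948661264, [63, 100, 95, 230, 232, 254, 98, 131, 135, 143, 152]),
  (588353077050868752, [213, 191, 113, 224, 8, 123, 160]), (9241439224941773328, [17, 202, 201, 200, 203]),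
  (9817899979258462736, [144, 10, 152, 34, 160, 17, 224, 194, 44, 44, 224]), (597905643201888784, [8, 84, 70, 12,
  136, 195, 210]), (14577646231472964112, [136, 192, 221, 90, 193, 129, 15, 140, 148]), (9385565408133906960, [9,
  158, 146, 129, 24, 138, 141]), (9423283055080243728, [40, 128, 13, 15, 120, 254, 111, 19, 195, 111, 35, 120,
  143]), (9236953217500316688, [17, 98, 223, 184, 100, 188, 191]), (9813413971817006096, [154, 253, 143, 99, 17,
  245, 101, 152, 130]), (9383883155343279120, [98, 11, 15, 111, 21]), (9800466120878064656, [24, 53, 98, 8, 9, 28,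
  224, 35, 195, 56, 138, 233, 138]), (592856685537657872, [84, 148, 184, 13, 28, 71, 98]), (9801644797343040528, [8,
  17, 34, 38, 39, 99, 54, 83, 54]), (12683326235358801936, [132, 116, 128, 13, 15, 19, 44]), (15730706369067614736,
  [8, 70, 193, 195, 9, 14, 26])]

/-- the code is the code of an odd word in the reflections -/
def chkO (p : ℕ × List ℕ) : Bool :=
  p.2.all qn && (p.2.length % 2 == 1) && (List.range 8).all fun i => evr p.2 (2 ^ i) == col 8 p.1 i

theorem chkO_outs : outs.all chkO = true := by decide +kernel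

theorem rep_dec {x : O8} {c : ℕ} (h : act.Rep x c) {i : ℕ} (hi : i < 8) :
    (x : V ≃ₗ[ZMod 2] V) (dec (2 ^ i)) = dec (col 8 c i) := by
  have h1 : cd ((x : V ≃ₗ[ZMod 2] V) (dec (2 ^ i))) = col 8 c i := h i hi
  rw [← h1, dec_cd]

theorem notMem_of_rep {p : ℕ × List ℕ} (hp : p ∈ outs) {x : O8} (hx : act.Rep x p.1) : x ∉ N8 := by
  intro h
  have h1 := List.all_eq_true.1 chkO_outs p hp
  rw [chkO, Bool.and_eq_true, Bool.and_eq_true, beq_iff_eq] at h1
  obtain ⟨⟨h2, h3⟩, h4⟩ := h1
  obtain ⟨g, h5, h6⟩ := exists_word p.2 h2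
  have h7 : x = g := by
    apply Subtype.ext
    apply lin_ext
    intro i hi
    rw [rep_dec hx hi, h6, eq_of_beq (List.all_eq_true.1 h4 i (List.mem_range.2 hi))]
  rw [h7, h5] at h
  omega

/-! ### the certificates -/

/-- code of an element of order 7 -/
def X0 : ℕ := 9225184045039617040

/-- `(r, w, u, z, v)` : `w u = u x₀`, `z v = v x₀`, `w z = r` -/
def cert : List (ℕ × ℕ × ℕ × ℕ × ℕ) :=
  [(9817882376469217808, 1419370300606747574, 6042732404967504439, 3878580312900490346, 5071609928799202997),
  (597888041415344656, 1770882927908183269, 8062553495478326071, 15372762101608256341, 16573756401297614373),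
  (9800993879883776528, 7595269181153529292, 9880087358550764243, 9961403839820450862, 12496719248928030018),
  (9818449724469150224, 3932691324033982196, 7249000432651188597, 8422467143151459078, 7516124159781331023),
  (9800998277930418704, 9703963152600393022, 1577171897495026253, 17916090974393366118, 4057849022857208407),
  (14577628633817547280, 17757885058298873461, 1432996788395560085, 3310980651249114960, 9739913687846000900),
  (9808945545958786064, 5129775330831555524, 6041249935930322129, 5902725594360871338, 9929706408109104230),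
  (10245231759860302864, 14043618532289794986, 11897750716462068010, 10880625103687200352, 13546725675064614547),
  (12117568123119338512, 6226050810889847729, 14104992544161932650, 9019387176540712565, 10074046604903956197),
  (597905642191323664, 7522900119375633605, 5376456018388919387, 12914378062069354002, 17353219810151655075),
  (9224555124389708304, 15753526376576315937, 7571121025776277241, 876815290421686484, 14068776290475021772),
  (9801015878706397712, 13022644817525138812, 11829578737175102844, 13308654083117612836, 15954588979078470575),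
  (14577646234593526288, 3230385449634938447, 8715076573040406845, 14547813508476021649, 16590877682886838227),
  (594538937553519120, 11842598586914280751, 1571084912335354962, 16841796292434073973, 11006262729546715970),
  (9224005368574641168, 13925976947899889940, 4605566121825783711, 16149926201294253548, 9809192112514924339),
  (9800466122891330576, 9065109837307853262, 2739643583783891291, 7632087621128101166, 13535891602889159967),
  (12698532481090978832, 17567620883215220483, 6867665087672636842, 7207981525084892217, 4959701785687483647),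
  (13274993236212974608, 5295998135286702030, 1579617305437065078, 12991888640263806060, 17205722734836670119),
  (9225184045039617040, 13577311611316579189, 8272744192913177124, 17251688341478397937, 11547768888656734847),
  (9801644799356306448, 3539214944121051510, 6349411306820585072, 9739925239470469679, 6532420217810608413),
  (12699711157555954704, 17581822298186922466, 11850696422833216517, 10722073533509524716, 15406555640930101977),
  (13276171912677950480, 787097782826844754, 17355102504834742777, 8236517290493540099, 873677704733719083),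
  (9241388647406907408, 1054407209532161132, 2980110266677715478, 4105369797002350339, 721702967830713514),
  (9817849401723596816, 18370568334185096795, 13267675496440275984, 1687280254168510357, 9671928587890604620),
  (597855065667022864, 7546442386057728250, 14045593878691423911, 6074894564655732482, 13569298036269398585),
  (12700214733878603792, 8151684397296442477, 15494421620313928300, 16839491953719106459, 5287356082187178415),
  (12750880229753630736, 14123059954079262251, 13274174709641745742, 13005510826917634077, 5905593660136681947),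
  (10970803984155279888, 9931593684400867134, 1081265967393801379, 18281645187472379946, 2753697707055817267),
  (15009406950003704336, 9741055434806000844, 15417983387055576325, 4933218217951716940, 10438137408090918164),
  (10971371332155212304, 5219908144314057670, 7197862674491453652, 13517533614490715169, 9882309623900787717),
  (10961867153644848144, 11628767033397231933, 13885353350005560300, 7296483024663405757, 4997249570737986937),
  (9241989036590236161, 13000548507321420885, 10994701209672688867, 2843654925625675675, 8695037187142130541)]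

/-- check of a certificate -/
def chkC (p : ℕ × ℕ × ℕ × ℕ × ℕ) : Bool :=
  isomF 8 mQ8 mB8 b8 q8 p.2.1 && isomF 8 mQ8 mB8 b8 q8 p.2.2.1 && isomF 8 mQ8 mB8 b8 q8 p.2.2.2.1 &&
    isomF 8 mQ8 mB8 b8 q8 p.2.2.2.2 && (List.range 8).all fun i =>
      (apc 8 p.2.1 (col 8 p.2.2.1 i) == apc 8 p.2.2.1 (col 8 X0 i)) &&
      (apc 8 p.2.2.2.1 (col 8 p.2.2.2.2 i) == apc 8 p.2.2.2.2 (col 8 X0 i)) &&
      (apc 8 p.2.1 (col 8 p.2.2.2.1 i) == col 8 p.1 i)

theorem chkC_cert : cert.all chkC = true := by decide +kernel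

theorem reps_split : reps = cert.map Prod.fst ++ 9241421688590303745 :: outs.map Prod.fst := by decide +kernel

theorem x0_isomF : isomF 8 mQ8 mB8 b8 q8 X0 = true := by decide +kernel

theorem exists_x0 : ∃ x : O8, act.Rep x X0 := act.exists_rep (isom_of masks x0_isomF)

/-- the element of order 7 -/
noncomputable def x0 : O8 := Classical.choose exists_x0

theorem x0_rep : act.Rep x0 X0 := Classical.choose_spec exists_x0

/-- the product of two elements on the basis -/
theorem mul_rep {g h : O8} {c d : ℕ} (hg : act.Rep g c) (hh : act.Rep h d) {i : ℕ} (hi : i < 8) :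
    act.ap (g * h) (2 ^ i) = apc 8 c (col 8 d i) := by
  rw [act.mul _ _ _ (two_pow_lt hi), hh i hi, act.ap_eq hg (col_lt _ _ _)]

theorem exists_uv {p : ℕ × ℕ × ℕ × ℕ × ℕ} (hp : p ∈ cert) {r : O8} (hr : act.Rep r p.1) :
    ∃ u v : O8, r = (u * x0 * u⁻¹) * (v * x0 * v⁻¹) := by
  have h1 := List.all_eq_true.1 chkC_cert p hp
  rw [chkC, Bool.and_eq_true, Bool.and_eq_true, Bool.and_eq_true, Bool.and_eq_true] at h1
  obtain ⟨⟨⟨⟨hw, hu⟩, hz⟩, hv⟩, h⟩ := h1
  obtain ⟨w, hw⟩ := act.exists_rep (isom_of masks hw)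
  obtain ⟨u, hu⟩ := act.exists_rep (isom_of masks hu)
  obtain ⟨z, hz⟩ := act.exists_rep (isom_of masks hz)
  obtain ⟨v, hv⟩ := act.exists_rep (isom_of masks hv)
  have h' : ∀ i < 8, apc 8 p.2.1 (col 8 p.2.2.1 i) = apc 8 p.2.2.1 (col 8 X0 i) ∧
      apc 8 p.2.2.2.1 (col 8 p.2.2.2.2 i) = apc 8 p.2.2.2.2 (col 8 X0 i) ∧
      apc 8 p.2.1 (col 8 p.2.2.2.1 i) = col 8 p.1 i := by
    intro i hi
    have h2 := List.all_eq_true.1 h i (List.mem_range.2 hi)
    rw [Bool.and_eq_true, Bool.and_eq_true, beq_iff_eq, beq_iff_eq, beq_iff_eq] at h2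
    exact ⟨h2.1.1, h2.1.2, h2.2⟩
  have e1 : w * u = u * x0 := act.ext fun i hi => by
    rw [mul_rep hw hu hi, mul_rep hu x0_rep hi, (h' i hi).1]
  have e2 : z * v = v * x0 := act.ext fun i hi => by
    rw [mul_rep hz hv hi, mul_rep hv x0_rep hi, (h' i hi).2.1]
  have e3 : w * z = r := act.ext fun i hi => by
    rw [mul_rep hw hz hi, hr i hi, (h' i hi).2.2]
  refine ⟨u, v, ?_⟩
  rw [← e1, ← e2, ← e3]
  group

/-- value of a power of `x₀` on codes -/
def pw : ℕ → ℕ → ℕ
  | 0, v => v
  | k + 1, v => apc 8 X0 (pw k v)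

theorem pw_lt : ∀ k v, v < 256 → pw k v < 256 ∧ act.ap (x0 ^ k) v = pw k v := by
  intro k
  induction k with
  | zero => intro v hv; exact ⟨hv, by rw [pow_zero]; exact act.one v hv⟩
  | succ k ih =>
    intro v hv
    obtain ⟨h1, h2⟩ := ih v hv
    have h3 : act.ap (x0 ^ (k + 1)) v = pw (k + 1) v := by
      rw [pow_succ', act.mul _ _ _ hv, h2, act.ap_eq x0_rep h1]
      rfl
    exact ⟨by rw [← h3]; exact act.lt _ _ hv, h3⟩

theorem pw7 : ∀ i < 8, pw 7 (2 ^ i) = 2 ^ i := by decide +kernel
theorem pw1 : pw 1 (2 ^ 0) ≠ 2 ^ 0 := by decide +kernel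
theorem fix_a : qn 8 = true ∧ apc 8 X0 8 = 8 := by decide +kernel

theorem x0_pow : x0 ^ 7 = 1 := by
  apply act.faithful
  intro i hi
  rw [(pw_lt 7 (2 ^ i) (two_pow_lt (n := 8) hi)).2, pw7 i hi]

theorem x0_ne : x0 ≠ 1 := by
  intro h
  apply pw1
  rw [← (pw_lt 1 (2 ^ 0) (by norm_num)).2, pow_one, h]
  exact act.one _ (by norm_num)

theorem order_x0 : orderOf x0 = 7 := by
  have : Fact (Nat.Prime 7) := ⟨by norm_num⟩
  exact orderOf_eq_prime x0_pow x0_ne

theorem x0_mem : x0 ∈ N8 := by
  have h : x0 = (x0 ^ 4) ^ 2 := by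
    rw [← pow_mul, show 4 * 2 = 7 + 1 from rfl, pow_succ, x0_pow, one_mul]
  rw [h]
  exact Subgroup.sq_mem_of_index_two index_N8 _

/-- the reflection in a fixed vector commutes with `x₀` -/
theorem x0_comm : rf 8 fix_a.1 * x0 = x0 * rf 8 fix_a.1 := by
  have hx : (x0 : V ≃ₗ[ZMod 2] V) (dec 8) = dec 8 := by
    apply cd_inj
    have h1 := act.ap_eq x0_rep (v := 8) (by norm_num)
    rw [fix_a.2] at h1
    rw [cd_dec (by norm_num)]
    exact h1
  have h0 : q (dec 8) ≠ 0 := by rw [q_dec, fix_a.1]; decide
  apply Subtype.ext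
  apply LinearEquiv.ext
  intro y
  show refl q (dec 8) h0 ((x0 : V ≃ₗ[ZMod 2] V) y) = (x0 : V ≃ₗ[ZMod 2] V) (refl q (dec 8) h0 y)
  rw [refl_apply, refl_apply, map_sub, map_smul, hx]
  have h1 : polar q (dec 8) ((x0 : V ≃ₗ[ZMod 2] V) y) = polar q (dec 8) y := by
    conv_lhs => rw [← hx]
    exact polar_map x0.2 _ _
  rw [h1]

theorem exists_mem (u : O8) : ∃ u' ∈ N8, u' * x0 * u'⁻¹ = u * x0 * u⁻¹ := by
  by_cases h : u ∈ N8
  · exact ⟨u, h, rfl⟩
  · refine ⟨u * rf 8 fix_a.1, mul_mem_N8 h (rf_notMem _), ?_⟩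
    have h1 : u * rf 8 fix_a.1 * x0 = u * x0 * rf 8 fix_a.1 := by rw [mul_assoc, x0_comm, ← mul_assoc]
    rw [h1]
    group

theorem id_code : ∀ i < 8, col 8 9241421688590303745 i = 2 ^ i := by decide +kernel

/-- every `g ≠ 1` in `N8` is a product of two `N8`-conjugates of `x₀` -/
theorem main {g : O8} (hg : g ∈ N8) (h1 : g ≠ 1) :
    ∃ u ∈ N8, ∃ v ∈ N8, g = (u * x0 * u⁻¹) * (v * x0 * v⁻¹) := by
  obtain ⟨c, hc, h, x, hx, e⟩ := cover g
  have hxN : x ∈ N8 := by
    have h2 : h⁻¹ * g * h⁻¹⁻¹ ∈ N8 := (inferInstance : N8.Normal).conj_mem g hg h⁻¹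
    rw [e] at h2
    have h3 : h⁻¹ * (h * x * h⁻¹) * h⁻¹⁻¹ = x := by group
    rwa [h3] at h2
  rw [reps_split, List.mem_append, List.mem_cons] at hc
  rcases hc with hc | rfl | hc
  · obtain ⟨p, hp, rfl⟩ := List.mem_map.1 hc
    obtain ⟨u, v, h2⟩ := exists_uv hp hx
    obtain ⟨u', hu', e1⟩ := exists_mem (h * u)
    obtain ⟨v', hv', e2⟩ := exists_mem (h * v)
    refine ⟨u', hu', v', hv', ?_⟩
    rw [e1, e2, e, h2]
    group
  · exfalso
    apply h1
    have h2 : x = 1 := by
      apply act.faithful
      intro i hi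
      rw [hx i hi, id_code i hi]
    rw [e, h2]
    group
  · obtain ⟨p, hp, rfl⟩ := List.mem_map.1 hc
    exact absurd hxN (notMem_of_rep hp hx)

/-! ### the group `PΩ₈⁻(2)` -/

theorem pp_zmod : H494.TC.PP (Cfsg.POmega (ZMod 2) (Cfsg.quadFormMinus 3 (ZMod 2) 1 1)) := by
  rw [← coe_quadMinus]
  have key : ∀ g : Cfsg.isometryGroup (ZMod 2) ⇑q, g ∈ commutator (Cfsg.isometryGroup (ZMod 2) ⇑q) ↔
      isometryEquiv q g ∈ N8 := by
    intro g
    rw [← map_N8]
    constructor
    · intro h; exact ⟨g, h, rfl⟩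
    · rintro ⟨g', h, e⟩
      rwa [← (isometryEquiv q).injective e]
  have hx : (isometryEquiv q).symm x0 ∈ commutator (Cfsg.isometryGroup (ZMod 2) ⇑q) := by
    rw [key, MulEquiv.apply_symm_apply]; exact x0_mem
  let X : Cfsg.Omega (ZMod 2) ⇑q := ⟨(isometryEquiv q).symm x0, hx⟩
  have hX7 : X ^ 7 = 1 := by
    apply Subtype.ext
    show (isometryEquiv q).symm x0 ^ 7 = 1
    rw [← map_pow, x0_pow, map_one]
  have hall : ∀ g : Cfsg.Omega (ZMod 2) ⇑q, g ≠ 1 → ∃ u v : Cfsg.Omega (ZMod 2) ⇑q,
      g = (u * X * u⁻¹) * (v * X * v⁻¹) := by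
    intro g hg
    obtain ⟨u, hu, v, hv, e⟩ := main ((key _).1 g.2) (fun h => hg (Subtype.ext
      ((isometryEquiv q).injective (by rw [h]; exact (map_one _).symm))))
    refine ⟨⟨(isometryEquiv q).symm u, (key _).2 (by rw [MulEquiv.apply_symm_apply]; exact hu)⟩,
      ⟨(isometryEquiv q).symm v, (key _).2 (by rw [MulEquiv.apply_symm_apply]; exact hv)⟩, ?_⟩
    apply Subtype.ext
    apply (isometryEquiv q).injective
    rw [e]
    show _ = isometryEquiv q (((isometryEquiv q).symm u * (isometryEquiv q).symm x0 * ((isometryEquiv q).symm u)⁻¹) *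
      ((isometryEquiv q).symm v * (isometryEquiv q).symm x0 * ((isometryEquiv q).symm v)⁻¹))
    simp only [map_mul, map_inv, MulEquiv.apply_symm_apply]
  have hmk : ∀ g : Cfsg.POmega (ZMod 2) ⇑q, g ≠ 1 → ∃ u v : Cfsg.POmega (ZMod 2) ⇑q,
      g = (u * QuotientGroup.mk X * u⁻¹) * (v * QuotientGroup.mk X * v⁻¹) := by
    intro g hg
    obtain ⟨g, rfl⟩ := QuotientGroup.mk_surjective g
    obtain ⟨u, v, e⟩ := hall g (fun h => hg (by rw [h]; rfl))
    exact ⟨QuotientGroup.mk u, QuotientGroup.mk v, by rw [e]; rfl⟩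
  have h7 : (QuotientGroup.mk X : Cfsg.POmega (ZMod 2) ⇑q) ^ 7 = 1 := by
    rw [← QuotientGroup.mk_pow, hX7]; rfl
  have hprime : Nat.Prime 7 := by norm_num
  have hX1 : X ≠ 1 := by
    intro h
    apply x0_ne
    have h2 : (isometryEquiv q).symm x0 = 1 := congrArg Subtype.val h
    rw [← (isometryEquiv q).apply_symm_apply x0, h2, map_one]
  have hne : (QuotientGroup.mk X : Cfsg.POmega (ZMod 2) ⇑q) ≠ 1 := by
    intro h
    have hc : ∀ u : Cfsg.Omega (ZMod 2) ⇑q, u * X * u⁻¹ = X := fun u => by
      rw [Subgroup.mem_center_iff.1 ((QuotientGroup.eq_one_iff X).1 h) u, mul_inv_cancel_right]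
    obtain ⟨u, v, e⟩ := hall X hX1
    rw [hc, hc] at e
    exact hX1 (left_eq_mul.1 e)
  have ho : orderOf (QuotientGroup.mk X : Cfsg.POmega (ZMod 2) ⇑q) = 7 := by
    have : Fact (Nat.Prime 7) := ⟨hprime⟩
    exact orderOf_eq_prime h7 hne
  exact ⟨QuotientGroup.mk X, by rw [ho]; exact hprime, by rw [ho]; norm_num, hmk⟩

/-- **the row `Ω₈⁻(2)`** of S4173, S2464, S2452 -/
theorem pp_o8m {F : Type*} [Field F] [Fintype F] (hF : Fintype.card F = 2) {a b : F}
    (hab : ∀ z₁ z₂ : F, z₁ ^ 2 + a * z₁ * z₂ + b * z₂ ^ 2 = 0 → z₁ = 0 ∧ z₂ = 0) :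
    H494.TC.PP (Cfsg.POmega F (Cfsg.quadFormMinus 3 F a b)) := by
  obtain ⟨e⟩ := Cfsg.Agent.H977.Dp.minus_iso (F := ZMod 2) (F' := F) (by rw [hF, ZMod.card]) 3
    (a := 1) (b := 1) (a' := a) (b' := b) aniso hab
  exact pp_zmod.of_equiv e

end Cfsg.Agent.H181.O8m
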