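import Cfsg.Agent.H181.TC.Main

/-!
# `Ω₈⁻(2)` : the elements of order 21 (S2491, row `F4 = 2E6(2)`, boxes COV and RK)

* `cover21` : for `x` of order 21, every `l ≠ 1` in `N8 = Ω₈⁻(2)` is `(a x a⁻¹) (b x⁻¹ b⁻¹)`;
* `rank21` : a product of at most four conjugates of `l` is conjugate to `x`.
-/

set_option autoImplicit false
set_option maxRecDepth 100000

namespace Cfsg.Agent.H181.O8m

open Cfsg.Agent.H612.Ore Cfsg.Agent.H201.O8 Cfsg.Agent.LieClassical.OrthCore QuadraticMap

/-! ### values on codes -/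

/-- `f` is the action of `g` on codes -/
def Val (g : O8) (f : ℕ → ℕ) : Prop := ∀ v, v < 256 → f v < 256 ∧ act.ap g v = f v

theorem Val.mul {g h : O8} {f k : ℕ → ℕ} (hg : Val g f) (hh : Val h k) : Val (g * h) (fun v => f (k v)) := by
  intro v hv
  obtain ⟨h1, h2⟩ := hh v hv
  obtain ⟨h3, h4⟩ := hg _ h1
  exact ⟨h3, by rw [act.mul _ _ _ hv, h2, h4]⟩

theorem val_one : Val 1 (fun v => v) := fun v hv => ⟨hv, act.one v hv⟩

theorem val_of_rep {g : O8} {c : ℕ} (h : act.Rep g c) : Val g (apc 8 c) := fun v hv => by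
  have h1 := act.ap_eq h (v := v) hv
  exact ⟨by rw [← h1]; exact act.lt _ _ hv, h1⟩

theorem Val.eq {g r : O8} {f : ℕ → ℕ} {c : ℕ} (hg : Val g f) (hr : act.Rep r c)
    (h : ∀ i < 8, f (2 ^ i) = col 8 c i) : g = r := act.ext fun i hi => by
  rw [(hg _ (two_pow_lt (n := 8) hi)).2, h i hi, hr i hi]

theorem Val.eq_of {g r : O8} {f k : ℕ → ℕ} (hg : Val g f) (hr : Val r k)
    (h : ∀ i < 8, f (2 ^ i) = k (2 ^ i)) : g = r := act.ext fun i hi => by
  rw [(hg _ (two_pow_lt (n := 8) hi)).2, h i hi, (hr _ (two_pow_lt (n := 8) hi)).2]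

/-- admissible letters -/
def okw (a : ℕ) : Bool := qn a && Nat.blt a 256

/-- product of reflections -/
noncomputable def wd : List ℕ → O8
  | [] => 1
  | a :: l => (if h : qn a = true then rf a h else 1) * wd l

theorem wd_cons {a : ℕ} (h : qn a = true) (l : List ℕ) : wd (a :: l) = rf a h * wd l := by
  rw [wd, dif_pos h]

theorem wd_append : ∀ l l' : List ℕ, wd (l ++ l') = wd l * wd l'
  | [], l' => (one_mul _).symm
  | a :: l, l' => by rw [List.cons_append, wd, wd_append l l', wd, mul_assoc]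

theorem rf_mul_self {a : ℕ} (ha : qn a = true) : rf a ha * rf a ha = 1 := by
  have h0 : q (dec a) ≠ 0 := by rw [q_dec, ha]; decide
  exact Subtype.ext (refl_mul_self h0)

theorem rf_inv {a : ℕ} (ha : qn a = true) : (rf a ha)⁻¹ = rf a ha :=
  inv_eq_of_mul_eq_one_left (rf_mul_self ha)

theorem wd_nil : wd [] = 1 := rfl

theorem wd_reverse : ∀ l : List ℕ, wd l.reverse = (wd l)⁻¹
  | [] => by rw [List.reverse_nil, wd_nil, inv_one]
  | a :: l => by
    rw [List.reverse_cons, wd_append, wd_reverse l]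
    by_cases h : qn a = true
    · rw [wd_cons h [], wd_cons h l, wd_nil, mul_one, mul_inv_rev, rf_inv]
    · have e1 : wd [a] = 1 := by
        show (if h : qn a = true then rf a h else 1) * wd [] = 1
        rw [dif_neg h, one_mul, wd_nil]
      have e2 : wd (a :: l) = wd l := by
        show (if h : qn a = true then rf a h else 1) * wd l = wd l
        rw [dif_neg h, one_mul]
      rw [e1, e2, mul_one]

theorem val_rf {a : ℕ} (ha : okw a = true) (h : qn a = true) : Val (rf a h) (fun v => v ^^^ (bif Bn a v then a else 0)) := by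
  rw [okw, Bool.and_eq_true, Nat.blt_eq] at ha
  intro v hv
  have h1 : v ^^^ (bif Bn a v then a else 0) < 256 := by
    refine Nat.xor_lt_two_pow (n := 8) hv ?_
    cases Bn a v
    · exact Nat.two_pow_pos 8
    · exact ha.2
  exact ⟨h1, by rw [act_ap, rf_dec, cd_dec h1]⟩

theorem val_wd : ∀ {l : List ℕ}, l.all okw = true → Val (wd l) (evr l)
  | [], _ => val_one
  | a :: l, h => by
    rw [List.all_cons, Bool.and_eq_true] at h
    have hq : qn a = true := by
      have := h.1
      rw [okw, Bool.and_eq_true] at this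
      exact this.1
    rw [wd_cons hq]
    exact (val_rf h.1 hq).mul (val_wd h.2)

theorem wd_mem : ∀ {l : List ℕ}, l.all okw = true → (wd l ∈ N8 ↔ l.length % 2 = 0)
  | [], _ => by simp [wd, one_mem]
  | a :: l, h => by
    rw [List.all_cons, Bool.and_eq_true] at h
    have hq : qn a = true := by
      have := h.1
      rw [okw, Bool.and_eq_true] at this
      exact this.1
    rw [wd_cons hq, Subgroup.mul_mem_iff_of_index_two index_N8, wd_mem h.2, List.length_cons]
    have := rf_notMem hq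
    constructor
    · intro h3
      by_contra h4
      exact this (h3.2 (by omega))
    · intro h3
      exact ⟨fun h4 => absurd h4 this, fun h4 => by omega⟩

theorem all_reverse {l : List ℕ} (h : l.all okw = true) : l.reverse.all okw = true := by
  rw [List.all_eq_true] at h ⊢
  exact fun x hx => h x (List.mem_reverse.1 hx)

/-- value of `k c k⁻¹` -/
def evC (c : ℕ) (k : List ℕ) (v : ℕ) : ℕ := evr k (apc 8 c (evr k.reverse v))

theorem val_C {g : O8} {c : ℕ} (hg : Val g (apc 8 c)) {k : List ℕ} (hk : k.all okw = true) :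
    Val (wd k * g * (wd k)⁻¹) (evC c k) := by
  rw [← wd_reverse]
  exact ((val_wd hk).mul hg).mul (val_wd (all_reverse hk))

/-- value of a product of conjugates -/
def evP (c : ℕ) : List (List ℕ) → ℕ → ℕ
  | [], v => v
  | k :: L, v => evC c k (evP c L v)

theorem val_P {g : O8} {c : ℕ} (hg : Val g (apc 8 c)) : ∀ {L : List (List ℕ)}, (∀ k ∈ L, k.all okw = true) →
    Val ((L.map fun k => wd k * g * (wd k)⁻¹).prod) (evP c L)
  | [], _ => val_one
  | k :: L, h => by
    rw [List.map_cons, List.prod_cons]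
    exact (val_C hg (h k List.mem_cons_self)).mul (val_P hg fun k hk => h k (List.mem_cons_of_mem _ hk))

/-! ### the element of order 21 -/

/-- code of an element of order 21 -/
def X21 : ℕ := 9801644799356306448
/-- code of the inverse -/
def X21i : ℕ := 586599355599962706

theorem x21_isomF : isomF 8 mQ8 mB8 b8 q8 X21 = true := by decide +kernel
theorem x21i_isomF : isomF 8 mQ8 mB8 b8 q8 X21i = true := by decide +kernel
theorem x21_inv : ∀ i < 8, apc 8 X21 (apc 8 X21i (2 ^ i)) = 2 ^ i := by decide +kernel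

/-- an element of order 21 -/
noncomputable def x21 : O8 := Classical.choose (act.exists_rep (isom_of masks x21_isomF))

theorem x21_rep : act.Rep x21 X21 := Classical.choose_spec (act.exists_rep (isom_of masks x21_isomF))

theorem val_x21 : Val x21 (apc 8 X21) := val_of_rep x21_rep

theorem val_x21i : Val x21⁻¹ (apc 8 X21i) := by
  obtain ⟨y, hy⟩ := act.exists_rep (isom_of masks x21i_isomF)
  have h : x21 * y = 1 := (val_x21.mul (val_of_rep hy)).eq_of val_one x21_inv
  rw [inv_eq_of_mul_eq_one_right h]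
  exact val_of_rep hy

/-- value of a power -/
def pwc (c : ℕ) : ℕ → ℕ → ℕ
  | 0, v => v
  | k + 1, v => apc 8 c (pwc c k v)

theorem val_pow {g : O8} {c : ℕ} (hg : Val g (apc 8 c)) : ∀ k : ℕ, Val (g ^ k) (pwc c k)
  | 0 => by rw [pow_zero]; exact val_one
  | k + 1 => by rw [pow_succ']; exact hg.mul (val_pow hg k)

/-- `c ^ k = 1` -/
def isone (c k : ℕ) : Bool := (List.range 8).all fun i => pwc c k (2 ^ i) == 2 ^ i

theorem isone_iff {g : O8} {c : ℕ} (hg : Val g (apc 8 c)) (k : ℕ) : isone c k = true ↔ g ^ k = 1 := by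
  rw [isone, List.all_eq_true]
  constructor
  · intro h
    exact (val_pow hg k).eq_of val_one fun i hi => eq_of_beq (h i (List.mem_range.2 hi))
  · intro h i hi
    have hi' := List.mem_range.1 hi
    rw [beq_iff_eq, ← ((val_pow hg k) _ (two_pow_lt (n := 8) hi')).2, h]
    exact act.one _ (two_pow_lt (n := 8) hi')

theorem only21 : (reps.all fun c => c == X21 || !isone c 21 || isone c 7 || isone c 3) = true := by decide +kernel

/-- all elements of order 21 are conjugate in `O8` -/
theorem conj21 {x : O8} (ho : orderOf x = 21) : ∃ m : O8, x = m * x21 * m⁻¹ := by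
  obtain ⟨c, hc, h, y, hy, e⟩ := cover x
  have hpow : ∀ k : ℕ, x ^ k = 1 ↔ y ^ k = 1 := by
    intro k
    rw [e, conj_pow]
    constructor
    · intro h1
      have h2 : y ^ k = h⁻¹ * (h * y ^ k * h⁻¹) * h := by group
      rw [h2, h1]; group
    · intro h1
      rw [h1]; group
  have h1 := List.all_eq_true.1 only21 c hc
  rw [Bool.or_eq_true, Bool.or_eq_true, Bool.or_eq_true, Bool.not_eq_true', beq_iff_eq,
    isone_iff (val_of_rep hy), isone_iff (val_of_rep hy), ← hpow, ← hpow] at h1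
  rcases h1 with ((h1 | h1) | h1) | h1
  · subst h1
    refine ⟨h, ?_⟩
    rw [e, show y = x21 from act.ext fun i hi => by rw [hy i hi, x21_rep i hi]]
  · exfalso
    have h2 : isone c 21 = true := (isone_iff (val_of_rep hy) 21).2 ((hpow 21).1 (by rw [← ho, pow_orderOf_eq_one]))
    rw [h1] at h2
    exact Bool.noConfusion h2
  · have h2 := orderOf_dvd_of_pow_eq_one h1
    rw [ho] at h2
    exact absurd h2 (by norm_num)
  · have h2 := orderOf_dvd_of_pow_eq_one h1
    rw [ho] at h2
    exact absurd h2 (by norm_num)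

/-- every `l ≠ 1` in `N8` is conjugate in `O8` to one of the 32 representatives -/
theorem rep_of {l : O8} (hl : l ∈ N8) (h1 : l ≠ 1) : ∃ c ∈ cert.map Prod.fst, ∃ h r : O8, act.Rep r c ∧ l = h * r * h⁻¹ := by
  obtain ⟨c, hc, h, x, hx, e⟩ := cover l
  have hxN : x ∈ N8 := by
    have h2 : h⁻¹ * l * h⁻¹⁻¹ ∈ N8 := (inferInstance : N8.Normal).conj_mem l hl h⁻¹
    rw [e] at h2
    have h3 : h⁻¹ * (h * x * h⁻¹) * h⁻¹⁻¹ = x := by group
    rwa [h3] at h2
  rw [reps_split, List.mem_append, List.mem_cons] at hc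
  rcases hc with hc | rfl | hc
  · exact ⟨c, hc, h, x, hx, e⟩
  · exfalso
    apply h1
    have h2 : x = 1 := by
      apply act.faithful
      intro i hi
      rw [hx i hi, id_code i hi]
    rw [e, h2]
    group
  · obtain ⟨p, hp, rfl⟩ := List.mem_map.1 hc
    exact absurd hxN (notMem_of_rep hp hx)

/-! ### the cover certificates -/

/-- `(r, a, b)` : `r = (a x a⁻¹) (b x⁻¹ b⁻¹)`, even words -/
def covE : List (ℕ × List ℕ × List ℕ) :=
  [(9817882376469217808, [140, 13, 9, 176, 113, 230], [83, 137, 60, 113, 99, 160]),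
   (597888041415344656, [238, 50, 188, 172, 133, 194], [60, 201, 15, 134, 180, 45]),
   (9800993879883776528, [191, 131, 193, 23, 49, 69], [129, 70, 233, 221, 24, 99, 105, 172, 213, 184]),
   (9818449724469150224, [180, 105, 40, 19, 26, 191, 156, 231], [24, 40, 141, 83, 86, 125]),
   (9800998277930418704, [195, 191, 200, 137, 110, 95, 126, 203], [86, 225, 184, 146, 243, 86, 210, 245, 15, 41]),
   (14577628633817547280, [88, 168, 125, 156, 72, 19, 173, 150], [95, 169, 138, 240, 179, 14, 161, 223, 113, 119]),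
   (9808945545958786064, [161, 71, 70, 215, 93, 50, 183, 239], [230, 180, 120, 184, 152, 179, 243, 203, 24, 45]),
   (10245231759860302864, [158, 208, 138, 154, 120, 10, 68, 164], [158, 19, 253, 133, 135, 148, 160, 230, 63, 230]),
   (12117568123119338512, [243, 21, 10, 132, 83, 104], [203, 193, 98, 218, 225, 246, 168, 172]),
   (597905642191323664, [152, 179, 233, 38, 243, 202], [195, 164, 95, 73, 120, 231, 30, 135]),
   (9224555124389708304, [164, 253, 34, 83, 140, 95], [248, 210, 9, 135, 41, 154]),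
   (9801015878706397712, [53, 168, 28, 19, 28, 230, 59, 254], [101, 202, 138, 126, 70, 34, 246, 154]),
   (14577646234593526288, [101, 99, 248, 215, 224, 28], [101, 210, 184, 98, 9, 130, 9, 9, 12, 26]),
   (594538937553519120, [253, 26, 68, 201, 105, 53], [203, 165, 81, 172, 129, 53, 93, 95]),
   (9224005368574641168, [253, 68, 146, 239, 168, 95], [54, 84, 225, 116, 240, 28, 88, 240, 88, 139]),
   (9800466122891330576, [41, 60, 231, 138, 86, 81], [123, 164, 158, 160, 34, 210]),
   (12698532481090978832, [84, 187, 73, 245, 130, 233], [120, 98, 179, 143, 45, 99]),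
   (13274993236212974608, [123, 243, 134, 23, 83, 68], [194, 202, 203, 208, 213, 50, 194, 50]),
   (9225184045039617040, [99, 136, 13, 137, 165, 144], [148, 254, 13, 90, 129, 104, 123, 123, 183, 218]),
   (9801644799356306448, [168, 239, 40, 139, 165, 84, 137, 248], [139, 9, 104, 54, 68, 111]),
   (12699711157555954704, [114, 98, 34, 111, 225, 195, 113, 213], [192, 142, 50, 45, 131, 9, 72, 146]),
   (13276171912677950480, [180, 133, 83, 154, 238, 44], [216, 144, 154, 38, 101, 40, 88, 243, 95, 101]),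
   (9241388647406907408, [119, 10, 130, 119, 44, 72, 202, 44], [248, 54, 35, 119, 26, 254, 150, 254, 28, 113]),
   (9817849401723596816, [239, 100, 123, 239, 184, 253, 50, 232], [38, 63, 128, 210]),
   (597855065667022864, [86, 203, 90, 210, 243, 137, 187, 38], [38, 251, 141, 111, 75, 208, 200, 134, 86, 134]),
   (12700214733878603792, [253, 215, 38, 119, 21, 146], [168, 253, 158, 125, 200, 138, 24, 45, 160, 245]),
   (12750880229753630736, [133, 54, 221, 230, 138, 14, 201, 70], [135, 221, 246, 95, 254, 81, 63, 195]),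
   (10970803984155279888, [187, 132, 193, 100, 193, 101], [152, 193, 131, 251, 9, 24, 49, 132]),
   (15009406950003704336, [50, 160, 239, 40, 136, 14, 21, 179], [183, 45, 134, 13, 132, 40, 172, 201, 225, 19]),
   (10971371332155212304, [38, 169, 142, 154, 165, 41, 143, 72], [141, 230, 23, 21, 73, 75, 173, 251]),
   (10961867153644848144, [86, 38, 38, 144, 210, 225], [68, 239, 88, 50, 129, 17, 119, 39, 101, 119]),
   (9241989036590236161, [83, 60, 15, 40, 116, 191], [240, 60, 40, 140, 69, 70])]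

/-- `(r, a, b)` : `r = (a x a⁻¹) (b x⁻¹ b⁻¹)`, odd words -/
def covO : List (ℕ × List ℕ × List ℕ) :=
  [(9817882376469217808, [128, 253, 246, 63, 83, 245, 243], [100, 148, 24, 110, 26, 75, 119]),
   (597888041415344656, [56, 41, 123, 45, 53], [230, 72, 142, 245, 251, 251, 134, 134, 168]),
   (9800993879883776528, [239, 188, 150, 193, 180, 39, 68], [135, 28, 116, 246, 40, 138, 74, 225, 254]),
   (9818449724469150224, [213, 200, 11, 200, 243, 49, 164], [19, 59, 251, 221, 50, 144, 148]),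
   (9800998277930418704, [126, 130, 150, 129, 35], [93, 239, 17, 70, 165, 73, 135]),
   (14577628633817547280, [98, 50, 168, 14, 24], [10, 154, 195, 111, 73, 137, 26, 30, 141]),
   (9808945545958786064, [251, 139, 40, 81, 113, 191, 173], [10, 246, 93, 132, 50, 83, 169, 192, 83]),
   (10245231759860302864, [69, 56, 123, 180, 11, 63, 154], [133, 142, 194, 9, 23, 130, 130, 41, 59]),
   (12117568123119338512, [72, 130, 133, 11, 113], [218, 100, 152, 201, 81, 169, 138, 202, 23]),
   (597905642191323664, [45, 95, 116, 68, 101], [15, 24, 73, 110, 248, 187, 136]),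
   (9224555124389708304, [194, 134, 134, 218, 233], [148, 101, 188, 95, 95, 41, 113, 164, 113]),
   (9801015878706397712, [54, 119, 24, 160, 54, 8, 84], [200, 208, 40, 8, 203, 225, 140, 160, 19]),
   (14577646234593526288, [169, 232, 253, 160, 187, 137, 233], [73, 81, 30, 39, 93, 13, 164, 30, 40]),
   (594538937553519120, [11, 128, 39, 192, 213, 125, 41], [40, 169, 202, 71, 24, 137, 202]),
   (9224005368574641168, [113, 152, 192, 172, 105], [88, 131, 41, 193, 218]),
   (9800466122891330576, [39, 135, 142, 113, 146, 111, 19], [165, 49, 201, 202, 225, 12, 173, 19, 173]),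
   (12698532481090978832, [201, 130, 164, 138, 152, 100, 210], [142, 187, 202, 154, 56, 245, 86]),
   (13274993236212974608, [239, 144, 238, 113, 70], [248, 243, 30, 133, 201, 200, 251, 135, 180]),
   (9225184045039617040, [83, 216, 99, 143, 133, 126, 137], [243, 110, 86, 105, 184, 134, 41]),
   (9801644799356306448, [111, 71, 251, 158, 150, 120, 213], [114, 49, 179, 128, 9, 13, 98]),
   (12699711157555954704, [13, 142, 146, 254, 88], [203, 161, 165, 13, 191, 240, 14]),
   (13276171912677950480, [233, 232, 161, 152, 35], [165, 188, 225, 11, 30, 50, 172]),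
   (9241388647406907408, [68, 12, 10, 60, 233], [191, 231, 203, 86, 119, 136, 126, 137, 215]),
   (9817849401723596816, [218, 187, 154, 164, 243, 110, 202], [10, 195, 90, 179, 21, 180, 119, 134, 160]),
   (597855065667022864, [184, 172, 144, 15, 203, 143, 101], [143, 12, 104, 119, 119, 30, 176]),
   (12700214733878603792, [188, 218, 63, 100, 126, 41, 138], [144, 200, 19, 210, 11, 213, 225, 169, 68]),
   (12750880229753630736, [184, 12, 251, 140, 110], [224, 8, 104, 24, 119]),
   (10970803984155279888, [53, 11, 12, 95, 28, 23, 34], [150, 225, 10, 148, 17, 169, 172]),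
   (15009406950003704336, [125, 180, 253, 34, 176], [192, 168, 202, 184, 49, 224, 119]),
   (10971371332155212304, [253, 135, 158, 194, 173, 17, 71], [161, 143, 13, 158, 221, 111, 233]),
   (10961867153644848144, [187, 113, 74, 192, 39, 38, 131], [240, 74, 98, 168, 172, 15, 30]),
   (9241989036590236161, [193, 111, 158, 9, 195], [192, 251, 208, 54, 11, 215, 14])]

/-- check -/
def chkV (e : ℕ) (p : ℕ × List ℕ × List ℕ) : Bool :=
  p.2.1.all okw && p.2.2.all okw && (p.2.1.length % 2 == e) && (p.2.2.length % 2 == e) &&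
    (List.range 8).all fun i => evC X21 p.2.1 (evC X21i p.2.2 (2 ^ i)) == col 8 p.1 i

theorem covE_ok : (covE.all (chkV 0) && (covE.map Prod.fst == cert.map Prod.fst)) = true := by decide +kernel
theorem covO_ok : (covO.all (chkV 1) && (covO.map Prod.fst == cert.map Prod.fst)) = true := by decide +kernel

theorem cov_of {e : ℕ} {l : List (ℕ × List ℕ × List ℕ)} (hl : (l.all (chkV e) && (l.map Prod.fst == cert.map Prod.fst)) = true)
    {c : ℕ} (hc : c ∈ cert.map Prod.fst) {r : O8} (hr : act.Rep r c) :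
    ∃ a b : O8, (a ∈ N8 ↔ e = 0) ∧ (b ∈ N8 ↔ e = 0) ∧ r = a * x21 * a⁻¹ * (b * x21⁻¹ * b⁻¹) := by
  rw [Bool.and_eq_true, beq_iff_eq] at hl
  rw [← hl.2] at hc
  obtain ⟨p, hp, rfl⟩ := List.mem_map.1 hc
  have h1 := List.all_eq_true.1 hl.1 p hp
  rw [chkV, Bool.and_eq_true, Bool.and_eq_true, Bool.and_eq_true, Bool.and_eq_true, beq_iff_eq, beq_iff_eq] at h1
  obtain ⟨⟨⟨⟨h2, h3⟩, h4⟩, h5⟩, h6⟩ := h1
  refine ⟨wd p.2.1, wd p.2.2, by rw [wd_mem h2, h4], by rw [wd_mem h3, h5], ?_⟩
  have h7 : ∀ i < 8, (fun v => evC X21 p.2.1 (evC X21i p.2.2 v)) (2 ^ i) = col 8 p.1 i := fun i hi => by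
    have h8 := List.all_eq_true.1 h6 i (List.mem_range.2 hi)
    rw [beq_iff_eq] at h8
    exact h8
  have hv : Val (wd p.2.1 * x21 * (wd p.2.1)⁻¹ * (wd p.2.2 * x21⁻¹ * (wd p.2.2)⁻¹))
      (fun v => evC X21 p.2.1 (evC X21i p.2.2 v)) := (val_C val_x21 h2).mul (val_C val_x21i h3)
  exact (hv.eq hr h7).symm

/-- parity of a product -/
theorem mem_mul_iff {a b : O8} : a * b ∈ N8 ↔ (a ∈ N8 ↔ b ∈ N8) := Subgroup.mul_mem_iff_of_index_two index_N8

theorem iff_aux (p q : Prop) : (p ↔ (p ↔ q)) ↔ q := by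
  by_cases hp : p <;> by_cases hq : q <;> simp [hp, hq]

/-- **COV** -/
theorem cover21 {x l : O8} (ho : orderOf x = 21) (hl : l ∈ N8) (h1 : l ≠ 1) :
    ∃ a ∈ N8, ∃ b ∈ N8, l = a * x * a⁻¹ * (b * x⁻¹ * b⁻¹) := by
  obtain ⟨m, rfl⟩ := conj21 ho
  obtain ⟨c, hc, h, r, hr, rfl⟩ := rep_of hl h1
  have key : ∃ a b : O8, (a ∈ N8 ↔ (h ∈ N8 ↔ m ∈ N8)) ∧ (b ∈ N8 ↔ (h ∈ N8 ↔ m ∈ N8)) ∧
      r = a * x21 * a⁻¹ * (b * x21⁻¹ * b⁻¹) := by
    by_cases hp : h ∈ N8 ↔ m ∈ N8
    · obtain ⟨a, b, h2, h3, h4⟩ := cov_of covE_ok hc hr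
      exact ⟨a, b, by simp [h2, hp], by simp [h3, hp], h4⟩
    · obtain ⟨a, b, h2, h3, h4⟩ := cov_of covO_ok hc hr
      exact ⟨a, b, by simp only [h2, hp]; decide, by simp only [h3, hp]; decide, h4⟩
  obtain ⟨a, b, ha, hb, e⟩ := key
  refine ⟨h * a * m⁻¹, ?_, h * b * m⁻¹, ?_, ?_⟩
  · rw [mem_mul_iff, mem_mul_iff, ha, inv_mem_iff]
    exact iff_aux _ _
  · rw [mem_mul_iff, mem_mul_iff, hb, inv_mem_iff]
    exact iff_aux _ _
  · rw [e]; group

/-! ### the rank certificates -/

/-- `(r, ks, c)` : the product of the `k r k⁻¹` is `c x c⁻¹`, `c` even -/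
def rkE : List (ℕ × List (List ℕ) × List ℕ) :=
  [(9817882376469217808, [[], [158, 120], [156, 194, 15, 251], [230, 191, 44, 41, 9, 158]], [12, 125, 154, 158, 38, 38, 110, 34, 148, 216]),
   (597888041415344656, [[], [99, 232, 56, 168]], [15, 53, 45, 114, 19, 39, 8, 129]),
   (9800993879883776528, [[], [11, 12, 201, 225, 116, 195]], [88, 63, 137, 140, 104, 40, 240, 216]),
   (9818449724469150224, [[], [139, 105, 213, 172, 116, 116]], [183, 111, 188, 240, 179, 253, 138, 139]),
   (9800998277930418704, [[], [72, 120, 213, 90]], [238, 221, 225, 224, 28, 120, 140, 169]),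
   (14577628633817547280, [[], [13, 253, 98, 126, 152, 215]], [154, 238, 192, 203, 135, 73, 140, 208, 101, 140]),
   (9808945545958786064, [[], [73, 68, 113, 150]], [213, 95, 129, 101, 184, 172, 240, 28, 137, 120]),
   (10245231759860302864, [[], [38, 191, 35, 84, 240, 144]], [148, 110, 105, 240, 9, 72, 238, 192, 254, 208]),
   (12117568123119338512, [[], [156, 49, 69, 23]], [165, 208, 143, 195, 225, 28, 243, 246]),
   (597905642191323664, [[], [161, 238, 144, 116]], [75, 231, 34, 231, 40, 70, 70, 84, 152, 183]),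
   (9224555124389708304, [[], [40, 133, 84, 53]], [140, 93, 15, 129, 254, 49]),
   (9801015878706397712, [[], [110, 154]], [84, 90, 150, 176, 133, 172, 132, 238, 239, 41]),
   (14577646234593526288, [[], [90, 201, 225, 12, 243, 131]], [253, 98, 146, 173, 10, 111, 15, 84]),
   (594538937553519120, [[], [100, 203, 54, 44, 200, 213]], [131, 132, 125, 116, 188, 72, 210, 218, 45, 38]),
   (9224005368574641168, [[], [95, 173, 93, 164]], [93, 74, 81, 100, 139, 169, 21, 194, 140, 231]),
   (9800466122891330576, [[], [192, 90, 75, 133]], [216, 233, 203, 246, 123, 144]),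
   (12698532481090978832, [[], [50, 137, 142, 75, 238, 12]], [45, 35, 39, 160, 156, 169, 195, 218]),
   (13274993236212974608, [[], [131, 184, 183, 245, 179, 113]], [45, 194, 179, 168, 99, 142]),
   (9225184045039617040, [[], [93, 137]], [141, 187, 136, 161, 88, 254, 101, 41, 188, 240]),
   (9801644799356306448, [[]], []),
   (12699711157555954704, [[], [11, 26, 201, 21, 110, 71]], [213, 63, 216, 161, 81, 224, 245, 254]),
   (13276171912677950480, [[], [45, 172, 134, 201, 218, 21]], [86, 13, 133, 110, 95, 172, 192, 60, 202, 246]),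
   (9241388647406907408, [[], [93, 251, 152, 132, 26, 21]], [231, 136, 150, 125, 73, 248, 53, 132]),
   (9817849401723596816, [[], [53, 84]], [83, 135, 129, 131, 99, 110, 19, 50, 164, 245]),
   (597855065667022864, [[], [13, 70, 53, 225]], [41, 75, 111, 210, 81, 128, 134, 218]),
   (12700214733878603792, [[], [74, 56, 161, 135, 19, 38]], [81, 158, 83, 38, 101, 248]),
   (12750880229753630736, [[], [69, 59, 28, 116, 128, 30]], [232, 59, 88, 233, 39, 125]),
   (10970803984155279888, [[], [192, 216, 10, 39, 193, 134], [192, 15], [243, 59, 68, 114]], [138, 168, 144, 251, 101, 223, 208, 254]),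
   (15009406950003704336, [[], [90, 192, 201, 45, 215, 203]], [99, 232, 136, 12, 215, 246, 246, 168, 169, 74]),
   (10971371332155212304, [[], [34, 140, 39, 93]], [40, 142, 191, 44, 119, 152, 13, 123]),
   (10961867153644848144, [[], [184, 184, 59, 134]], [193, 225, 154, 208, 60, 88, 95, 218, 39, 164]),
   (9241989036590236161, [[], [216, 191, 233, 100, 54, 95], [238, 120, 60, 246, 230, 176], [141, 216, 131, 134, 41, 99]], [88, 119, 148, 126, 230, 95, 180, 245, 245, 111])]

/-- `(r, ks, c)` : the product of the `k r k⁻¹` is `c x c⁻¹`, `c` odd -/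
def rkO : List (ℕ × List (List ℕ) × List ℕ) :=
  [(9817882376469217808, [[], [173, 105, 11, 53, 105, 136], [13, 150], [98, 191, 53, 120]], [161, 35, 160, 44, 69, 93, 99, 139, 110]),
   (597888041415344656, [[], [168, 173, 135, 88]], [75, 176, 81, 98, 239, 134, 13]),
   (9800993879883776528, [[], [39, 13, 111, 202]], [152, 30, 105, 23, 63, 251, 165, 193, 26]),
   (9818449724469150224, [[], [39, 188, 213, 210, 230, 176]], [203, 129, 194, 183, 150, 83, 132, 150, 216]),
   (9800998277930418704, [[], [110, 45]], [184, 60, 26, 144, 49, 216, 59]),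
   (14577628633817547280, [[], [75, 83, 176, 84]], [194, 13, 201, 210, 38]),
   (9808945545958786064, [[], [74, 113, 75, 200]], [8, 9, 10, 17, 23, 224, 135, 173, 202]),
   (10245231759860302864, [[], [193, 141, 213, 28, 68, 9]], [54, 243, 119, 13, 223, 63, 142]),
   (12117568123119338512, [[], [34, 208, 93, 49, 141, 68]], [49, 95, 132, 193, 74, 224, 128]),
   (597905642191323664, [[], [9, 129, 248, 75, 54, 148]], [126, 253, 50, 104, 148]),
   (9224555124389708304, [[], [129, 142, 15, 172, 240, 50]], [68, 192, 193, 225, 11, 15, 24]),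
   (9801015878706397712, [[], [144, 224]], [114, 233, 152, 238, 165, 253, 17]),
   (14577646234593526288, [[], [245, 34, 39, 144]], [128, 202, 132, 221, 148]),
   (594538937553519120, [[], [133, 13, 83, 254, 191, 45]], [200, 201, 21, 90, 90, 59, 176, 71, 81]),
   (9224005368574641168, [[], [240, 143]], [24, 184, 110, 131, 210, 253, 216, 30, 59]),
   (9800466122891330576, [[], [40, 84, 100, 128, 116, 110]], [169, 137, 191, 116, 184, 254, 56]),
   (12698532481090978832, [[], [116, 54, 24, 215, 60, 144]], [128, 71, 59, 224, 11, 172, 11, 73, 88]),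
   (13274993236212974608, [[], [39, 126]], [138, 21, 188, 253, 30, 53, 248, 54, 251]),
   (9225184045039617040, [[], [142, 132, 40, 230, 192, 168]], [188, 95, 26, 19, 224, 70, 213, 150, 19]),
   (9801644799356306448, [[], [200, 19, 203, 126, 202, 224]], [208, 221, 59, 90, 165, 74, 133]),
   (12699711157555954704, [[], [238, 132, 168, 142, 71, 17]], [224, 21, 116, 123, 120, 216, 123, 221, 26]),
   (13276171912677950480, [[], [110, 218]], [187, 150, 213, 223, 233]),
   (9241388647406907408, [[], [74, 191, 38, 203, 8, 73]], [63, 156, 200, 113, 11, 215, 8]),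
   (9817849401723596816, [[], [56, 74, 187, 44]], [191, 193, 100, 221, 14, 75, 113]),
   (597855065667022864, [[], [187, 50, 126, 131, 143, 152]], [168, 110, 225, 156, 9, 9, 238, 83, 114]),
   (12700214733878603792, [[], [23, 239, 158, 238, 246, 9]], [148, 231, 120, 21, 68]),
   (12750880229753630736, [[], [143, 8, 17, 218, 179, 83]], [138, 125, 41, 21, 254, 230, 233, 63, 104]),
   (10970803984155279888, [[], [75, 35, 140, 114], [142, 114], [164, 88, 184, 49]], [54, 56, 90, 30, 116, 142, 203]),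
   (15009406950003704336, [[], [98, 195, 44, 158]], [70, 216, 28, 194, 40, 179, 230, 128, 213]),
   (10971371332155212304, [[], [176, 134, 254, 158, 93, 125]], [114, 116, 98, 201, 119, 164, 224]),
   (10961867153644848144, [[], [50, 188, 70, 50]], [21, 73, 114, 172, 187, 49, 192]),
   (9241989036590236161, [[], [169, 218], [142, 41, 105, 194], [136, 72, 129, 126]], [56, 194, 231, 19, 70, 240, 165])]

/-- check -/
def chkR (e : ℕ) (p : ℕ × List (List ℕ) × List ℕ) : Bool :=
  (p.2.1.all fun k => k.all okw && (k.length % 2 == 0)) && p.2.2.all okw && Nat.blt p.2.1.length 5 &&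
    (p.2.2.length % 2 == e) && (List.range 8).all fun i => evP p.1 p.2.1 (2 ^ i) == evC X21 p.2.2 (2 ^ i)

theorem rkE_ok : (rkE.all (chkR 0) && (rkE.map Prod.fst == cert.map Prod.fst)) = true := by decide +kernel
theorem rkO_ok : (rkO.all (chkR 1) && (rkO.map Prod.fst == cert.map Prod.fst)) = true := by decide +kernel

theorem rk_of {e : ℕ} {l : List (ℕ × List (List ℕ) × List ℕ)}
    (hl : (l.all (chkR e) && (l.map Prod.fst == cert.map Prod.fst)) = true)
    {c : ℕ} (hc : c ∈ cert.map Prod.fst) {r : O8} (hr : act.Rep r c) :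
    ∃ (ks : List O8) (k : O8), ks.length ≤ 4 ∧ (∀ t ∈ ks, t ∈ N8) ∧ (k ∈ N8 ↔ e = 0) ∧
      (ks.map fun t => t * r * t⁻¹).prod = k * x21 * k⁻¹ := by
  rw [Bool.and_eq_true, beq_iff_eq] at hl
  rw [← hl.2] at hc
  obtain ⟨p, hp, rfl⟩ := List.mem_map.1 hc
  have h1 := List.all_eq_true.1 hl.1 p hp
  rw [chkR, Bool.and_eq_true, Bool.and_eq_true, Bool.and_eq_true, Bool.and_eq_true, beq_iff_eq, Nat.blt_eq,
    List.all_eq_true] at h1
  obtain ⟨⟨⟨⟨h2, h3⟩, h4⟩, h5⟩, h6⟩ := h1
  have h7 : ∀ k ∈ p.2.1, k.all okw = true := fun k hk => by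
    have := h2 k hk
    rw [Bool.and_eq_true] at this
    exact this.1
  refine ⟨p.2.1.map wd, wd p.2.2, by rw [List.length_map]; omega, ?_, by rw [wd_mem h3, h5], ?_⟩
  · intro t ht
    obtain ⟨k, hk, rfl⟩ := List.mem_map.1 ht
    have := h2 k hk
    rw [Bool.and_eq_true, beq_iff_eq] at this
    rw [wd_mem (h7 k hk), this.2]
  · have h8 : ∀ i < 8, evP p.1 p.2.1 (2 ^ i) = evC X21 p.2.2 (2 ^ i) := fun i hi => by
      have h9 := List.all_eq_true.1 h6 i (List.mem_range.2 hi)
      rw [beq_iff_eq] at h9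
      exact h9
    have hv : Val ((p.2.1.map fun k => wd k * r * (wd k)⁻¹).prod) (evP p.1 p.2.1) := val_P (val_of_rep hr) h7
    have hw : Val (wd p.2.2 * x21 * (wd p.2.2)⁻¹) (evC X21 p.2.2) := val_C val_x21 h3
    have e : ((p.2.1.map wd).map fun t => t * r * t⁻¹) = p.2.1.map fun k => wd k * r * (wd k)⁻¹ := by
      rw [List.map_map, Function.comp_def]
    rw [e]
    exact hv.eq_of hw h8

theorem conj_prod (h r : O8) : ∀ ks : List O8,
    (ks.map fun t => (h * t * h⁻¹) * (h * r * h⁻¹) * (h * t * h⁻¹)⁻¹).prod = h * (ks.map fun t => t * r * t⁻¹).prod * h⁻¹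
  | [] => by simp
  | t :: ks => by
    rw [List.map_cons, List.prod_cons, conj_prod h r ks, List.map_cons, List.prod_cons]
    group

/-- **RK** -/
theorem rank21 {x l : O8} (ho : orderOf x = 21) (hl : l ∈ N8) (h1 : l ≠ 1) :
    ∃ L : List O8, L.length ≤ 4 ∧ (∀ t ∈ L, ∃ k ∈ N8, t = k * l * k⁻¹) ∧ ∃ k ∈ N8, L.prod = k * x * k⁻¹ := by
  obtain ⟨m, rfl⟩ := conj21 ho
  obtain ⟨c, hc, h, r, hr, rfl⟩ := rep_of hl h1
  have key : ∃ (ks : List O8) (k : O8), ks.length ≤ 4 ∧ (∀ t ∈ ks, t ∈ N8) ∧ (k ∈ N8 ↔ (h ∈ N8 ↔ m ∈ N8)) ∧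
      (ks.map fun t => t * r * t⁻¹).prod = k * x21 * k⁻¹ := by
    by_cases hp : h ∈ N8 ↔ m ∈ N8
    · obtain ⟨ks, k, h2, h3, h4, h5⟩ := rk_of rkE_ok hc hr
      exact ⟨ks, k, h2, h3, by simp [h4, hp], h5⟩
    · obtain ⟨ks, k, h2, h3, h4, h5⟩ := rk_of rkO_ok hc hr
      exact ⟨ks, k, h2, h3, by simp only [h4, hp]; decide, h5⟩
  obtain ⟨ks, k, h2, h3, h4, h5⟩ := key
  refine ⟨ks.map fun t => (h * t * h⁻¹) * (h * r * h⁻¹) * (h * t * h⁻¹)⁻¹, by rw [List.length_map]; exact h2, ?_,
    h * k * m⁻¹, ?_, ?_⟩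
  · intro t ht
    obtain ⟨s, hs, rfl⟩ := List.mem_map.1 ht
    exact ⟨h * s * h⁻¹, (inferInstance : N8.Normal).conj_mem s (h3 s hs) h, rfl⟩
  · rw [mem_mul_iff, mem_mul_iff, h4, inv_mem_iff]
    exact iff_aux _ _
  · rw [conj_prod, h5]; group

/-! ### the same inside the group `N8` -/

theorem cov21 (x : ↥N8) (ho : orderOf x = 21) (l : ↥N8) (hl : l ≠ 1) :
    ∃ a b : ↥N8, l = a * x * a⁻¹ * (b * x⁻¹ * b⁻¹) := by
  obtain ⟨a, ha, b, hb, e⟩ := cover21 (x := (x : O8)) (l := (l : O8)) (by rw [Subgroup.orderOf_coe]; exact ho) l.2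
    (fun h => hl (Subtype.ext h))
  exact ⟨⟨a, ha⟩, ⟨b, hb⟩, Subtype.ext e⟩

theorem rk21_four (x : ↥N8) (ho : orderOf x = 21) (l : ↥N8) (hl : l ≠ 1) :
    ∃ L : List ↥N8, L.length ≤ 4 ∧ (∀ t ∈ L, ∃ k : ↥N8, t = k * l * k⁻¹) ∧ ∃ k : ↥N8, L.prod = k * x * k⁻¹ := by
  obtain ⟨L, h1, h2, k, hk, e⟩ := rank21 (x := (x : O8)) (l := (l : O8)) (by rw [Subgroup.orderOf_coe]; exact ho) l.2
    (fun h => hl (Subtype.ext h))
  have hm : ∀ t ∈ L, t ∈ N8 := fun t ht => by
    obtain ⟨k, hk, rfl⟩ := h2 t ht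
    exact N8.mul_mem (N8.mul_mem hk l.2) (N8.inv_mem hk)
  refine ⟨L.attach.map fun t => ⟨t.1, hm t.1 t.2⟩, by rw [List.length_map, List.length_attach]; exact h1, ?_,
    ⟨k, hk⟩, ?_⟩
  · intro t ht
    obtain ⟨s, hs, rfl⟩ := List.mem_map.1 ht
    obtain ⟨k, hk, e⟩ := h2 s.1 s.2
    exact ⟨⟨k, hk⟩, Subtype.ext e⟩
  · apply Subtype.ext
    rw [Subgroup.val_list_prod, List.map_map]
    have h3 : (L.attach.map ((Subtype.val : ↥N8 → O8) ∘ fun t => ⟨t.1, hm t.1 t.2⟩)) = L := by
      rw [Function.comp_def]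
      exact List.attach_map_subtype_val L
    rw [h3]
    exact e

theorem rk21 (x : ↥N8) (ho : orderOf x = 21) (l : ↥N8) (hl : l ≠ 1) :
    ∃ L : List ↥N8, L.length ≤ 5 ∧ (∀ t ∈ L, ∃ k : ↥N8, t = k * l * k⁻¹ ∨ t = k * l⁻¹ * k⁻¹) ∧
      ∃ k : ↥N8, L.prod = k * x * k⁻¹ := by
  obtain ⟨L, h1, h2, h3⟩ := rk21_four x ho l hl
  exact ⟨L, by omega, fun t ht => by
    obtain ⟨k, hk⟩ := h2 t ht
    exact ⟨k, Or.inl hk⟩, h3⟩

end Cfsg.Agent.H181.O8m
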